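import Mathlib.Algebra.Group.Subgroup.Pointwise
import Mathlib.GroupTheory.Index
import Mathlib.GroupTheory.Perm.Cycle.Type
import Mathlib.GroupTheory.QuotientGroup.Basic
import Cfsg.Agent.H94.M23R.CentData

/-!
M23 recognition: the sixteen-groups attached to three commuting involutions `t, v, t v` are not
pairwise distinct (helper99, for helper94).
-/

set_option autoImplicit false
set_option linter.unusedSectionVars false

namespace H99.M23R

open Subgroup H94.M23R
open scoped Pointwise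

variable {G : Type*} [Group G] [Finite G]

theorem mul_self_comm {a b : G} (ha : a * a = 1) (hb : b * b = 1) (h : (a * b) * (a * b) = 1) :
    a * b = b * a := by
  rw [← inv_eq_of_mul_eq_one_right h, mul_inv_rev, inv_eq_of_mul_eq_one_right ha,
    inv_eq_of_mul_eq_one_right hb]

theorem comm_of_sq {Q : Subgroup G} (hsq : ∀ e ∈ Q, e * e = 1) {a b : G} (ha : a ∈ Q)
    (hb : b ∈ Q) : a * b = b * a :=
  mul_self_comm (hsq a ha) (hsq b hb) (hsq _ (mul_mem ha hb))

theorem isPGroup_of_sq {Q : Subgroup G} (hsq : ∀ e ∈ Q, e * e = 1) : IsPGroup 2 Q := fun e =>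
  ⟨1, Subtype.ext (by
    rw [pow_one, pow_two, Subgroup.coe_mul, Subgroup.coe_one]; exact hsq e e.2)⟩

theorem ord_two {Q : Subgroup G} (hsq : ∀ e ∈ Q, e * e = 1) {v : G} (hv : v ∈ Q) (h1 : v ≠ 1) :
    orderOf v = 2 :=
  orderOf_eq_prime (by rw [pow_two]; exact hsq v hv) h1

theorem card_sup (A B : Subgroup G) (h : A ≤ normalizer (B : Set G)) :
    Nat.card ↥(A ⊔ B) * Nat.card ↥(A ⊓ B) = Nat.card A * Nat.card B := by
  haveI : (B.subgroupOf A).Normal := Subgroup.normal_subgroupOf_of_le_normalizer h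
  haveI : (B.subgroupOf (A ⊔ B)).Normal :=
    Subgroup.normal_subgroupOf_of_le_normalizer (sup_le h le_normalizer)
  have h1 : (B.subgroupOf A).index = (B.subgroupOf (A ⊔ B)).index :=
    Nat.card_congr (QuotientGroup.quotientInfEquivProdNormalizerQuotient A B h).toEquiv
  have h2 := (B.subgroupOf A).card_mul_index
  have h3 := (B.subgroupOf (A ⊔ B)).card_mul_index
  rw [Nat.card_congr (subgroupOfEquivOfLe (le_sup_right : B ≤ A ⊔ B)).toEquiv, ← h1] at h3
  rw [← inf_subgroupOf_left, Nat.card_congr (subgroupOfEquivOfLe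
    (inf_le_left : A ⊓ B ≤ A)).toEquiv] at h2
  rw [← h3, ← h2]
  rw [inf_subgroupOf_left]
  ring

/-- A subgroup of order four containing the four group generated by `t`, `v`. -/
theorem four_cases {S : Subgroup G} (hS : Nat.card S = 4) {t v : G} (ht : t ∈ S) (hv : v ∈ S)
    (ht1 : t ≠ 1) (hv1 : v ≠ 1) (hvt : v ≠ t) (hne : t * v ≠ 1) {e : G} (he : e ∈ S) :
    e = 1 ∨ e = t ∨ e = v ∨ e = t * v := by
  classical
  by_contra hcon
  push Not at hcon
  obtain ⟨a1, a2, a3, a4⟩ := hcon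
  have h5 : ({1, t, v, t * v, e} : Finset G).card = 5 := by
    have n1 : t ≠ t * v := fun h => hv1 (by simpa using h)
    have n2 : v ≠ t * v := fun h => ht1 (by simpa using h)
    rw [Finset.card_insert_of_notMem, Finset.card_insert_of_notMem, Finset.card_insert_of_notMem,
      Finset.card_insert_of_notMem, Finset.card_singleton] <;>
      simp only [Finset.mem_insert, Finset.mem_singleton, not_or]
    · exact Ne.symm a4
    · exact ⟨n2, Ne.symm a3⟩
    · exact ⟨Ne.symm hvt, n1, Ne.symm a2⟩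
    · exact ⟨Ne.symm ht1, Ne.symm hv1, Ne.symm hne, Ne.symm a1⟩
  haveI : Fintype S := Fintype.ofFinite _
  have h4 : ({1, t, v, t * v, e} : Finset G).card ≤ (S : Set G).toFinset.card := by
    refine Finset.card_le_card fun y hy => ?_
    simp only [Finset.mem_insert, Finset.mem_singleton] at hy
    rw [Set.mem_toFinset]
    rcases hy with rfl | rfl | rfl | rfl | rfl
    exacts [one_mem S, ht, hv, mul_mem ht hv, he]
  rw [h5, Set.toFinset_card, ← Nat.card_eq_fintype_card] at h4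
  exact absurd (h4.trans_eq hS) (by norm_num)

variable {t v : G} {Q P : Subgroup G}

/-- The sixteen-group is equivariant. -/
theorem equiv (hQ : CentData t Q) (g : G) (hP : CentData (g * t * g⁻¹) P) (e : G) :
    e ∈ Q ↔ g * e * g⁻¹ ∈ P := by
  have hle : Q.map (MulAut.conj g).toMonoidHom ≤ P := by
    refine hP.max _ ((isPGroup_of_sq hQ.sq).map _) ?_ ?_
    · rintro _ ⟨a, ha, rfl⟩
      refine mem_centralizer_singleton_iff.2 ?_
      show MulAut.conj g a * MulAut.conj g t = MulAut.conj g t * MulAut.conj g a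
      rw [← map_mul, ← map_mul, mem_centralizer_singleton_iff.1 (hQ.le ha)]
    · intro c hc
      have hc' : g⁻¹ * c * g ∈ normalizer (Q : Set G) := hQ.normal (mem_centralizer_singleton_iff.2
        (by
          calc g⁻¹ * c * g * t = g⁻¹ * (c * (g * t * g⁻¹)) * g := by group
            _ = g⁻¹ * (g * t * g⁻¹ * c) * g := by rw [mem_centralizer_singleton_iff.1 hc]
            _ = t * (g⁻¹ * c * g) := by group))
      refine mem_set_normalizer_iff.2 fun n => ⟨?_, ?_⟩
      · rintro ⟨a, ha, rfl⟩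
        refine ⟨_, (mem_set_normalizer_iff.1 hc' a).1 ha, ?_⟩
        show g * (g⁻¹ * c * g * a * (g⁻¹ * c * g)⁻¹) * g⁻¹ = c * (g * a * g⁻¹) * c⁻¹
        group
      · rintro ⟨a, ha, e'⟩
        replace e' : g * a * g⁻¹ = c * n * c⁻¹ := e'
        refine ⟨g⁻¹ * n * g, (mem_set_normalizer_iff.1 hc' _).2 ?_, ?_⟩
        · rw [show g⁻¹ * c * g * (g⁻¹ * n * g) * (g⁻¹ * c * g)⁻¹ = g⁻¹ * (c * n * c⁻¹) * g by group,
            ← e', show g⁻¹ * (g * a * g⁻¹) * g = a by group]
          exact ha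
        · show g * (g⁻¹ * n * g) * g⁻¹ = n
          group
  have he : Q.map (MulAut.conj g).toMonoidHom = P := by
    refine Subgroup.eq_of_le_of_card_ge hle ?_
    rw [card_map_of_injective (MulAut.conj g).injective, hQ.card_Q, hP.card_Q]
  rw [← he]
  exact (mem_map_iff_mem (f := (MulAut.conj g).toMonoidHom) (MulAut.conj g).injective).symm

theorem unique (hQ : CentData t Q) (hP : CentData t P) : P = Q := by
  ext e
  have := equiv hQ 1 (P := P) (by simpa using hP) e
  simpa using this.symm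

/-- Elements of order three centralising `t` and any given element of its sixteen-group. -/
theorem exists_three (hQ : CentData t Q) (ht : t ≠ 1)
    (hcard : Nat.card (centralizer ({t} : Set G)) = 2688) (hv : v ∈ Q) (hv1 : v ≠ 1)
    (hvt : v ≠ t) :
    ∃ x ∈ centralizer ({t} : Set G), orderOf x = 3 ∧ x * v = v * x := by
  haveI : Fact (Nat.Prime 3) := ⟨Nat.prime_three⟩
  obtain ⟨⟨x, hx⟩, hxo⟩ := exists_prime_orderOf_dvd_card' (G := centralizer ({t} : Set G)) 3
    (by rw [hcard]; norm_num)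
  rw [Subgroup.orderOf_mk] at hxo
  obtain ⟨u, hu, hu1, hut⟩ : ∃ u ∈ Q ⊓ centralizer ({x} : Set G), u ≠ 1 ∧ u ≠ t := by
    by_contra hne
    push Not at hne
    have hle : Q ⊓ centralizer ({x} : Set G) ≤ zpowers t := fun u hu => by
      rcases eq_or_ne u 1 with rfl | h
      · exact one_mem _
      · rw [hne u hu h]; exact mem_zpowers t
    have h4 := Subgroup.card_le_of_le hle
    rw [hQ.fix x hx hxo, Nat.card_zpowers, ord_two hQ.sq hQ.mem ht] at h4
    omega
  obtain ⟨c, hc, h⟩ := hQ.trans u hu.1 v hv hu1 hut hv1 hvt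
  have hct := mem_centralizer_singleton_iff.1 hc
  have hxt := mem_centralizer_singleton_iff.1 hx
  have hxu : x * u = u * x := (mem_centralizer_singleton_iff.1 hu.2).symm
  have hc1 : c * x * c⁻¹ ∈ centralizer ({t} : Set G) := mul_mem (mul_mem hc hx) (inv_mem hc)
  refine ⟨c * x * c⁻¹, hc1, ?_, ?_⟩
  · rw [← hxo]; exact (MulAut.conj c).orderOf_eq x
  · have h2 : Commute (c * x * c⁻¹) (c * u * c⁻¹) := by
      show c * x * c⁻¹ * (c * u * c⁻¹) = c * u * c⁻¹ * (c * x * c⁻¹)
      calc _ = c * (x * u) * c⁻¹ := by group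
        _ = c * (u * x) * c⁻¹ := by rw [hxu]
        _ = _ := by group
    rcases h with h | h
    · rw [h] at h2; exact h2.eq
    · rw [h] at h2
      have h3 : Commute (c * x * c⁻¹) t := mem_centralizer_singleton_iff.1 hc1
      have h4 := h3.mul_right h2
      rwa [← mul_assoc, hQ.sq t hQ.mem, one_mul] at h4

/-- The relation `v ∈ Q(t)` is symmetric. -/
theorem mem_symm (hQ : CentData t Q) (ht : t ≠ 1)
    (hcard : Nat.card (centralizer ({t} : Set G)) = 2688) (hv : v ∈ Q) (hv1 : v ≠ 1)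
    (hvt : v ≠ t) (hP : CentData v P) : t ∈ P := by
  obtain ⟨x, hx, hxo, hxv⟩ := exists_three hQ ht hcard hv hv1 hvt
  refine hP.lift x (mem_centralizer_singleton_iff.2 hxv) hxo t
    (mem_centralizer_singleton_iff.2 (comm_of_sq hQ.sq hQ.mem hv)) ?_ ?_
  · rw [hQ.sq t hQ.mem]; exact one_mem _
  · rw [(mem_centralizer_singleton_iff.1 hx).symm, mul_inv_cancel_right, mul_inv_cancel]
    exact one_mem _

/-- The centraliser of `x` in `Q` has no `x`-invariant extension of index two. -/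
theorem meet {x : G} (hx : orderOf x = 3) (hsq : ∀ e ∈ Q, e * e = 1) (hQ : Nat.card Q = 16)
    (hW : Nat.card ↥(Q ⊓ centralizer ({x} : Set G)) = 4) {H : Subgroup G} (hH : H ≤ Q)
    (hWH : Q ⊓ centralizer ({x} : Set G) ≤ H) (hne : H ≠ Q) {a : G} (ha : a ∈ H)
    (hax : x * a * x⁻¹ ∈ H) : a ∈ centralizer ({x} : Set G) := by
  by_contra hcon
  set W : Subgroup G := Q ⊓ centralizer ({x} : Set G) with hWdef
  have hW' : Nat.card (W.subgroupOf H) = 4 := by
    rw [Nat.card_congr (subgroupOfEquivOfLe hWH).toEquiv, hW]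
  have hmul := (W.subgroupOf H).card_mul_index
  rw [hW'] at hmul
  have hdvd : Nat.card H ∣ 16 := hQ ▸ Subgroup.card_dvd_of_le hH
  have hlt : Nat.card H ≠ 16 := fun h => hne (Subgroup.eq_of_le_of_card_ge hH (by rw [hQ, h]))
  rw [← hmul] at hdvd hlt
  have hi : (W.subgroupOf H).index = 1 ∨ (W.subgroupOf H).index = 2 := by
    have h4 : (W.subgroupOf H).index ∣ 4 :=
      Nat.dvd_of_mul_dvd_mul_left (by norm_num : 0 < 4) (by simpa using hdvd)
    have hle := Nat.le_of_dvd (by norm_num) h4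
    interval_cases (W.subgroupOf H).index <;> omega
  rcases hi with hi | hi
  · rw [Subgroup.index_eq_one, subgroupOf_eq_top] at hi
    exact hcon (hi ha).2
  have hy : x * a * x⁻¹ ∉ W := by
    intro h
    have hc := mem_centralizer_singleton_iff.1 h.2
    have : a = x * a * x⁻¹ := by
      calc a = x⁻¹ * (x * a * x⁻¹ * x) := by group
        _ = x⁻¹ * (x * (x * a * x⁻¹)) := by rw [hc]
        _ = x * a * x⁻¹ := by group
    exact hcon (this ▸ h.2)
  have hw := (Subgroup.mul_mem_iff_of_index_two hi (a := (⟨x * a * x⁻¹, hax⟩ : H))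
    (b := ⟨a, ha⟩)).2 ⟨fun h => absurd (mem_subgroupOf.1 h) hy,
      fun h => absurd (mem_subgroupOf.1 h).2 hcon⟩
  rw [mem_subgroupOf, Subgroup.coe_mul] at hw
  have hc : x * (x * a * x⁻¹ * a) = x * a * x⁻¹ * a * x :=
    (mem_centralizer_singleton_iff.1 hw.2).symm
  have ha2 : a * a = 1 := hsq a (hH ha)
  have h2 : x * x * a * (x * x)⁻¹ = a := by
    calc x * x * a * (x * x)⁻¹
        = (x * (x * a * x⁻¹ * (a * a))) * x⁻¹ := by rw [ha2]; group
      _ = (x * (x * a * x⁻¹ * a)) * a * x⁻¹ := by group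
      _ = (x * a * x⁻¹ * a) * (x * a * x⁻¹) := by rw [hc]; group
      _ = x * a * x⁻¹ * (a * (x * a * x⁻¹)) := by group
      _ = x * a * x⁻¹ * (x * a * x⁻¹ * a) := by rw [comm_of_sq hsq (hH ha) (hH hax)]
      _ = (x * a * x⁻¹ * (x * a * x⁻¹)) * a := by group
      _ = a := by rw [hsq _ (hH hax), one_mul]
  refine hcon (mem_centralizer_singleton_iff.2 ?_)
  have hc2 : Commute a (x * x) := by
    show a * (x * x) = x * x * a
    calc a * (x * x) = x * x * a * (x * x)⁻¹ * (x * x) := by rw [h2]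
      _ = x * x * a := by group
  have hx4 : x * x * (x * x) = x := by
    have h3 : x ^ 3 = 1 := hx ▸ pow_orderOf_eq_one x
    calc x * x * (x * x) = x ^ 3 * x := by rw [pow_succ, pow_succ, pow_one]; group
      _ = x := by rw [h3, one_mul]
  have := hc2.mul_right hc2
  rwa [hx4] at this

/-- Commutators with a closure, modulo a central involution. -/
theorem comm_closure {S : Set G} {w a : G} (hSw : ∀ s ∈ S, s * w = w * s)
    (h : ∀ s ∈ S, a * s * a⁻¹ * s⁻¹ ∈ zpowers w) {e : G} (he : e ∈ closure S) :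
    a * e * a⁻¹ * e⁻¹ ∈ zpowers w := by
  suffices h' : Commute e w ∧ a * e * a⁻¹ * e⁻¹ ∈ zpowers w from h'.2
  induction he using closure_induction with
  | mem s hs => exact ⟨hSw s hs, h s hs⟩
  | one => exact ⟨Commute.one_left w, by simp⟩
  | mul x y _ _ hx hy =>
    refine ⟨hx.1.mul_left hy.1, ?_⟩
    obtain ⟨k, hk⟩ := hy.2
    replace hk : w ^ k = a * y * a⁻¹ * y⁻¹ := hk
    rw [show a * (x * y) * a⁻¹ * (x * y)⁻¹ =
      (a * x * a⁻¹ * x⁻¹) * (x * (a * y * a⁻¹ * y⁻¹) * x⁻¹) by group, ← hk,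
      (hx.1.zpow_right k).eq, mul_inv_cancel_right]
    exact mul_mem hx.2 (zpow_mem_zpowers w k)
  | inv x _ hx =>
    refine ⟨hx.1.inv_left, ?_⟩
    obtain ⟨k, hk⟩ := hx.2
    replace hk : w ^ k = a * x * a⁻¹ * x⁻¹ := hk
    rw [show a * x⁻¹ * a⁻¹ * x⁻¹⁻¹ = x⁻¹ * (a * x * a⁻¹ * x⁻¹)⁻¹ * x⁻¹⁻¹ by group, ← hk,
      ((hx.1.inv_left.zpow_right k).inv_right).eq, mul_inv_cancel_right]
    exact inv_mem (zpow_mem_zpowers w k)

theorem sup_conj_mem {A B : Subgroup G} {n : G} (hA : n ∈ normalizer (A : Set G))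
    (hB : n ∈ normalizer (B : Set G)) {e : G} (he : e ∈ A ⊔ B) : n * e * n⁻¹ ∈ A ⊔ B := by
  have h : A ⊔ B ≤ (A ⊔ B).comap (MulAut.conj n).toMonoidHom :=
    sup_le (fun a ha => (le_sup_left : A ≤ A ⊔ B) ((mem_set_normalizer_iff.1 hA a).1 ha))
      (fun b hb => (le_sup_right : B ≤ A ⊔ B) ((mem_set_normalizer_iff.1 hB b).1 hb))
  exact h he

theorem le_normalizer_sup {A B C : Subgroup G} (hA : C ≤ normalizer (A : Set G))
    (hB : C ≤ normalizer (B : Set G)) : C ≤ normalizer ((A ⊔ B : Subgroup G) : Set G) := by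
  intro n hn
  refine mem_set_normalizer_iff.2 fun e => ⟨sup_conj_mem (hA hn) (hB hn), fun h => ?_⟩
  have := sup_conj_mem (hA (inv_mem hn)) (hB (inv_mem hn)) (SetLike.mem_coe.1 h)
  rwa [show n⁻¹ * (n * e * n⁻¹) * n⁻¹⁻¹ = e by group] at this

/-- The three sixteen-groups at a four group are not pairwise distinct. -/
theorem not_distinct (ht1 : t ≠ 1) (hcard : Nat.card (centralizer ({t} : Set G)) = 2688)
    (hQ : CentData t Q) (hv : v ∈ Q) (hv1 : v ≠ 1) (hvt : v ≠ t) (hP : CentData v P)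
    {P' : Subgroup G} (hP' : CentData (t * v) P') : P = Q ∨ P' = Q ∨ P' = P := by
  by_contra hcon
  push Not at hcon
  obtain ⟨hPQ, hP'Q, hP'P⟩ := hcon
  obtain ⟨x, hx, hxo, hxv⟩ := exists_three hQ ht1 hcard hv hv1 hvt
  have hut : t * v ≠ t := fun h => hv1 (by simpa using h)
  have hu1 : t * v ≠ 1 := fun h => hvt (by
    rw [← inv_eq_of_mul_eq_one_right h, inv_eq_of_mul_eq_one_right (hQ.sq t hQ.mem)])
  have htP : t ∈ P := mem_symm hQ ht1 hcard hv hv1 hvt hP
  have htP' : t ∈ P' := mem_symm hQ ht1 hcard (mul_mem hQ.mem hv) hu1 hut hP'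
  have hvP' : v ∈ P' := by
    have := mul_mem htP' hP'.mem
    rwa [← mul_assoc, hQ.sq t hQ.mem, one_mul] at this
  have hct : ∀ {R : Subgroup G}, (∀ e ∈ R, e * e = 1) → t ∈ R →
      R ≤ centralizer ({t} : Set G) := fun hR htR e he =>
    mem_centralizer_singleton_iff.2 (comm_of_sq hR he htR)
  have hcv : ∀ {R : Subgroup G}, (∀ e ∈ R, e * e = 1) → v ∈ R →
      R ≤ centralizer ({v} : Set G) := fun hR hvR e he =>
    mem_centralizer_singleton_iff.2 (comm_of_sq hR he hvR)
  have hcu : ∀ {R : Subgroup G}, (∀ e ∈ R, e * e = 1) → t * v ∈ R →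
      R ≤ centralizer ({t * v} : Set G) := fun hR huR e he =>
    mem_centralizer_singleton_iff.2 (comm_of_sq hR he huR)
  have hxvC : x ∈ centralizer ({v} : Set G) := mem_centralizer_singleton_iff.2 hxv
  have hxt : x * t = t * x := mem_centralizer_singleton_iff.1 hx
  have hxuC : x ∈ centralizer ({t * v} : Set G) := mem_centralizer_singleton_iff.2
    ((show Commute x t from hxt).mul_right (show Commute x v from hxv)).eq
  -- the common fixed group
  set W : Subgroup G := Q ⊓ centralizer ({x} : Set G) with hWdef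
  have hWc : Nat.card W = 4 := hQ.fix x hx hxo
  have htW : t ∈ W := ⟨hQ.mem, mem_centralizer_singleton_iff.2 hxt.symm⟩
  have hvW : v ∈ W := ⟨hv, mem_centralizer_singleton_iff.2 hxv.symm⟩
  have hWeq : ∀ {R : Subgroup G}, Nat.card ↥(R ⊓ centralizer ({x} : Set G)) = 4 → t ∈ R →
      v ∈ R → R ⊓ centralizer ({x} : Set G) = W := fun {R} hR htR hvR => by
    refine (Subgroup.eq_of_le_of_card_ge (fun e he => ?_) (by rw [hR, hWc])).symm
    rcases four_cases hWc htW hvW ht1 hv1 hvt hu1 he with rfl | rfl | rfl | rfl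
    · exact one_mem _
    · exact ⟨htR, htW.2⟩
    · exact ⟨hvR, hvW.2⟩
    · exact mul_mem ⟨htR, htW.2⟩ ⟨hvR, hvW.2⟩
  have hPW : P ⊓ centralizer ({x} : Set G) = W := hWeq (hP.fix x hxvC hxo) htP hP.mem
  have hP'W : P' ⊓ centralizer ({x} : Set G) = W := hWeq (hP'.fix x hxuC hxo) htP' hvP'
  have hWP : W ≤ P := hPW ▸ inf_le_left
  have hWP' : W ≤ P' := hP'W ▸ inf_le_left
  have hxQ := hQ.normal hx
  have hxP := hP.normal hxvC
  have hxP' := hP'.normal hxuC
  have key : ∀ {R : Subgroup G}, (∀ e ∈ R, e * e = 1) → Nat.card R = 16 →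
      R ⊓ centralizer ({x} : Set G) = W → ∀ {H : Subgroup G}, H ≤ R → W ≤ H → H ≠ R →
      ∀ {a : G}, a ∈ H → x * a * x⁻¹ ∈ H → a ∈ W := fun {R} hsq hc he {H} hHR hWH hne {a} ha hax =>
    he ▸ ⟨hHR ha, meet hxo hsq hc (he ▸ hWc) hHR (he ▸ hWH) hne ha hax⟩
  have hint : ∀ {A B : Subgroup G}, (∀ e ∈ B, e * e = 1) → Nat.card B = 16 →
      B ⊓ centralizer ({x} : Set G) = W → (x ∈ normalizer (B : Set G)) →
      (∀ e ∈ A, x * e * x⁻¹ ∈ A) → W ≤ A → ¬ B ≤ A → A ⊓ B = W :=
    fun {A B} hsq hc he hxB hxA hWA hne => le_antisymm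
      (fun e hee => key hsq hc he inf_le_right (le_inf hWA (he ▸ inf_le_left))
        (fun h => hne (h ▸ inf_le_left)) hee
        ⟨hxA e hee.1, (mem_set_normalizer_iff.1 hxB e).1 hee.2⟩)
      (le_inf hWA (he ▸ inf_le_left))
  have hPQi : P ⊓ Q = W := hint hQ.sq hQ.card_Q rfl hxQ
    (fun e he => (mem_set_normalizer_iff.1 hxP e).1 he) hWP
    (fun h => hPQ (Subgroup.eq_of_le_of_card_ge h (by rw [hP.card_Q, hQ.card_Q])).symm)
  have hP'Qi : P' ⊓ Q = W := hint hQ.sq hQ.card_Q rfl hxQ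
    (fun e he => (mem_set_normalizer_iff.1 hxP' e).1 he) hWP'
    (fun h => hP'Q (Subgroup.eq_of_le_of_card_ge h (by rw [hP'.card_Q, hQ.card_Q])).symm)
  have hP'Pi : P' ⊓ P = W := hint hP.sq hP.card_Q hPW hxP
    (fun e he => (mem_set_normalizer_iff.1 hxP' e).1 he) hWP'
    (fun h => hP'P (Subgroup.eq_of_le_of_card_ge h (by rw [hP.card_Q, hP'.card_Q])).symm)
  -- the group `R = P Q`
  have hPN : P ≤ normalizer (Q : Set G) := (hct hP.sq htP).trans hQ.normal
  have hP'N : P' ≤ normalizer (Q : Set G) := (hct hP'.sq htP').trans hQ.normal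
  have hR64 : Nat.card ↥(P ⊔ Q) = 64 := by
    have := card_sup P Q hPN
    rw [hPQi, hWc, hP.card_Q, hQ.card_Q] at this
    omega
  have hR'64 : Nat.card ↥(P' ⊔ Q) = 64 := by
    have := card_sup P' Q hP'N
    rw [hP'Qi, hWc, hP'.card_Q, hQ.card_Q] at this
    omega
  have hP'R : P' ≤ P ⊔ Q := by
    by_contra hnle
    have hi : (P ⊔ Q) ⊓ P' = W := hint hP'.sq hP'.card_Q hP'W hxP'
      (fun e he => sup_conj_mem hxP hxQ he) (hWP.trans le_sup_left) hnle
    have hN : P' ≤ normalizer ((P ⊔ Q : Subgroup G) : Set G) :=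
      le_normalizer_sup ((hcv hP'.sq hvP').trans hP.normal) hP'N
    have h256 := card_sup P' (P ⊔ Q) hN
    rw [inf_comm, hi, hWc, hP'.card_Q, hR64] at h256
    have hdvd := Subgroup.card_dvd_of_le
      (show P' ⊔ (P ⊔ Q) ≤ centralizer ({t} : Set G) from
        sup_le (hct hP'.sq htP') (sup_le (hct hP.sq htP) hQ.le))
    rw [hcard, show Nat.card ↥(P' ⊔ (P ⊔ Q)) = 256 by omega] at hdvd
    norm_num at hdvd
  have hRR : P' ⊔ Q = P ⊔ Q :=
    Subgroup.eq_of_le_of_card_ge (sup_le hP'R le_sup_right) (by rw [hR64, hR'64])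
  obtain ⟨a, ha, haQ⟩ : ∃ a ∈ P, a ∉ Q := by
    by_contra h
    push Not at h
    exact hPQ (Subgroup.eq_of_le_of_card_ge h (by rw [hP.card_Q, hQ.card_Q]))
  have haW : a ∉ W := fun h => haQ h.1
  obtain ⟨q, hq, haq⟩ : ∃ q ∈ Q, a * q ∈ P' := by
    have : a ∈ P' ⊔ Q := hRR ▸ (le_sup_left : P ≤ P ⊔ Q) ha
    have h2 : a ∈ (P' : Set G) * (Q : Set G) := by
      rw [← coe_mul_of_left_le_normalizer_right P' Q hP'N]; exact this
    obtain ⟨b, hb, q, hq, rfl⟩ := Set.mem_mul.1 h2
    exact ⟨q⁻¹, inv_mem hq, by simpa using hb⟩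
  have haqc : a * q = q * a := mul_self_comm (hP.sq a ha) (hQ.sq q hq) (hP'.sq _ haq)
  have hqW : q ∉ W := fun h => haW (hP'Pi ▸ ⟨by
    have := mul_mem haq (inv_mem (hWP' h))
    rwa [mul_inv_cancel_right] at this, ha⟩)
  set b := x * a * x⁻¹ with hbdef
  set r := x * q * x⁻¹ with hrdef
  have hb : b ∈ P := (mem_set_normalizer_iff.1 hxP a).1 ha
  have hr : r ∈ Q := (mem_set_normalizer_iff.1 hxQ q).1 hq
  have hbr : b * r ∈ P' := by
    have := (mem_set_normalizer_iff.1 hxP' (a * q)).1 haq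
    rwa [show b * r = x * (a * q) * x⁻¹ by rw [hbdef, hrdef]; group]
  have hbrc : b * r = r * b := mul_self_comm (hP.sq b hb) (hQ.sq r hr) (hP'.sq _ hbr)
  -- commutators lie in `W`
  have hcm : ∀ c ∈ Q, ∀ d ∈ P, c * d * c⁻¹ * d⁻¹ ∈ W := fun c hc d hd => by
    rw [← hPQi]
    refine ⟨P.mul_mem ((mem_set_normalizer_iff.1 (hP.normal (hcv hQ.sq hv hc)) d).1 hd) (P.inv_mem hd),
      ?_⟩
    rw [show c * d * c⁻¹ * d⁻¹ = c * (d * c⁻¹ * d⁻¹) by group]
    exact Q.mul_mem hc ((mem_set_normalizer_iff.1 (hPN hd) c⁻¹).1 (Q.inv_mem hc))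
  set w := q * b * q⁻¹ * b⁻¹ with hwdef
  have hwW : w ∈ W := hcm q hq b hb
  set w' := r * a * r⁻¹ * a⁻¹ with hw'def
  have hw'W : w' ∈ W := hcm r hr a ha
  have hWQ : W ≤ Q := inf_le_left
  have hww : w' = w := by
    have e := comm_of_sq hP'.sq haq hbr
    have e1 : a * q * (b * r) = w * (a * b * (q * r)) := by
      calc a * q * (b * r) = a * (q * b) * r := by group
        _ = a * (w * (b * q)) * r := by rw [hwdef]; group
        _ = (a * w) * (b * (q * r)) := by group
        _ = (w * a) * (b * (q * r)) := by rw [comm_of_sq hP.sq ha (hWP hwW)]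
        _ = _ := by group
    have e2 : b * r * (a * q) = w' * (a * b * (q * r)) := by
      calc b * r * (a * q) = b * (r * a) * q := by group
        _ = b * (w' * (a * r)) * q := by rw [hw'def]; group
        _ = (b * w') * (a * (r * q)) := by group
        _ = (w' * b) * (a * (q * r)) := by
            rw [comm_of_sq hP.sq hb (hWP hw'W), comm_of_sq hQ.sq hr hq]
        _ = w' * ((b * a) * (q * r)) := by group
        _ = _ := by rw [comm_of_sq hP.sq hb ha]
    rw [e1, e2] at e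
    exact (mul_right_cancel e).symm
  have hww2 : w⁻¹ = w := inv_eq_of_mul_eq_one_right (hQ.sq w hwW.1)
  -- generators
  set S : Set G := (W : Set G) ∪ {q, r, a, b} with hSdef
  have hWS : W ≤ closure S := fun e he => subset_closure (Or.inl he)
  have hgen : ∀ {R : Subgroup G}, (∀ e ∈ R, e * e = 1) → Nat.card R = 16 →
      R ⊓ centralizer ({x} : Set G) = W → ∀ c ∈ R, c ∉ W → x * c * x⁻¹ ∈ R →
      c ∈ closure S → x * c * x⁻¹ ∈ closure S → R ≤ closure S :=
    fun {R} hsq hc he c hcR hcW hxc h1 h2 => by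
    by_contra hnle
    exact hcW (key hsq hc he (inf_le_left : R ⊓ closure S ≤ R)
      (le_inf (he ▸ inf_le_left) hWS) (fun h => hnle (h ▸ inf_le_right))
      ⟨hcR, h1⟩ ⟨hxc, h2⟩)
  have hQS : Q ≤ closure S := hgen hQ.sq hQ.card_Q rfl q hq hqW hr
    (subset_closure (Or.inr (by simp))) (subset_closure (Or.inr (by simp [← hrdef])))
  have hPS : P ≤ closure S := hgen hP.sq hP.card_Q hPW a ha haW hb
    (subset_closure (Or.inr (by simp))) (subset_closure (Or.inr (by simp [← hbdef])))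
  have hsub : S ⊆ (P : Set G) ∪ Q := by
    rintro s (hs | hs)
    · exact Or.inr (hWQ hs)
    · rcases hs with rfl | rfl | rfl | rfl
      · exact Or.inr hq
      · exact Or.inr hr
      · exact Or.inl ha
      · exact Or.inl hb
  have hWcen : ∀ s ∈ S, ∀ e ∈ W, s * e = e * s := fun s hs e he => by
    rcases hsub hs with h | h
    · exact comm_of_sq hP.sq h (hWP he)
    · exact comm_of_sq hQ.sq h (hWQ he)
  have hpair : ∀ c ∈ S, ∀ d ∈ S, c * d * c⁻¹ * d⁻¹ ∈ zpowers w := by
    have h0 : ∀ c d : G, c * d = d * c → c * d * c⁻¹ * d⁻¹ ∈ zpowers w := fun c d h => by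
      rw [h]; simp
    have hbw : b * q * b⁻¹ * q⁻¹ ∈ zpowers w := by
      rw [show b * q * b⁻¹ * q⁻¹ = w⁻¹ by rw [hwdef]; group, hww2]; exact mem_zpowers w
    have har : a * r * a⁻¹ * r⁻¹ ∈ zpowers w := by
      rw [show a * r * a⁻¹ * r⁻¹ = w'⁻¹ by rw [hw'def]; group, hww, hww2]; exact mem_zpowers w
    rintro c (hc | hc) d hd
    · exact h0 _ _ (hWcen d hd c hc).symm
    rcases hd with hd | hd
    · exact h0 _ _ (hWcen c (Or.inr hc) d hd)
    rcases hc with rfl | rfl | rfl | rfl <;> rcases hd with rfl | rfl | rfl | rfl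
    all_goals first
      | exact h0 _ _ rfl
      | exact h0 _ _ (comm_of_sq hQ.sq hq hr)
      | exact h0 _ _ (comm_of_sq hQ.sq hr hq)
      | exact h0 _ _ (comm_of_sq hP.sq ha hb)
      | exact h0 _ _ (comm_of_sq hP.sq hb ha)
      | exact h0 _ _ haqc
      | exact h0 _ _ haqc.symm
      | exact h0 _ _ hbrc
      | exact h0 _ _ hbrc.symm
      | exact mem_zpowers w
      | exact hbw
      | exact har
      | (rw [← hw'def, hww]; exact mem_zpowers w)
  -- the end
  have fin : ∀ {Qw : Subgroup G}, CentData w Qw → Qw ≤ P ⊔ Q → P ⊔ Q ≤ Qw := by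
    intro Qw hD hle
    refine (sup_le hPS hQS).trans ((closure_le (K := Qw)).2 fun s hs => hD.faith s ?_ ?_)
    · exact mem_centralizer_singleton_iff.2 (hWcen s hs w hwW)
    · exact fun e he => comm_closure (fun s' hs' => hWcen s' hs' w hwW) (hpair s hs)
        (sup_le hPS hQS (hle he))
  rcases four_cases hWc htW hvW ht1 hv1 hvt hu1 hwW with h | h | h | h
  · -- `w = 1`
    refine hqW (hPQi ▸ ⟨hP.self (mem_centralizer_iff.2 fun e he => ?_), hq⟩)
    have hcomm := comm_closure (fun s' hs' => hWcen s' hs' w hwW)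
      (hpair q (Or.inr (by simp))) (hPS he)
    rw [h, zpowers_one_eq_bot, mem_bot] at hcomm
    calc e * q = (q * e * q⁻¹ * e⁻¹) * (e * q) := by rw [hcomm, one_mul]
      _ = q * e := by group
  · have h16 := Subgroup.card_le_of_le (fin (h.symm ▸ hQ) le_sup_right)
    rw [hR64, hQ.card_Q] at h16; omega
  · have h16 := Subgroup.card_le_of_le (fin (h.symm ▸ hP) le_sup_left)
    rw [hR64, hP.card_Q] at h16; omega
  · have h16 := Subgroup.card_le_of_le (fin (h.symm ▸ hP') hP'R)
    rw [hR64, hP'.card_Q] at h16; omega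

end H99.M23R
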