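import Mathlib.Tactic
import Cfsg.Agent.H91.M23R.Loc
import Cfsg.Agent.H99.M23R.Pair

/-!
M23 recognition: from the shape `2^4.L3(2)` of the involution centralisers to the sixteen-group
with normaliser of order 40320 whose conjugates meet trivially (helper99, for helper94).
-/

set_option autoImplicit false
set_option linter.unusedSectionVars false

namespace H99.M23R

open Subgroup H94.M23R

variable {G : Type*} [Group G] [Finite G]

/-- The members of `Q` sharing the sixteen-group `Q`, as a subtype. -/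
abbrev Owners (Q : Subgroup G) : Type _ := {z : G // z ∈ Q ∧ z ≠ 1 ∧ CentData z Q}

variable (L : H91.M23R.Loc G)
  (hC : ∀ t : G, orderOf t = 2 → ∃ Q : Subgroup G, CentData t Q)
include L hC

/-- The property of owning `Q` is invariant under conjugation by `C(t)`. -/
theorem owner_conj {t v : G} {Q : Subgroup G} (hv1 : v ≠ 1) (hvQ : CentData v Q) {n : G}
    (hn : n ∈ normalizer (Q : Set G)) : CentData (n * v * n⁻¹) Q := by
  obtain ⟨P, hP⟩ := hC (n * v * n⁻¹) (by
    rw [show n * v * n⁻¹ = MulAut.conj n v from rfl, MulEquiv.orderOf_eq]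
    exact ord_two hvQ.sq hvQ.mem hv1)
  convert hP using 1
  ext e
  constructor
  · intro he
    have h := (equiv hvQ n hP (n⁻¹ * e * n)).1 ((mem_set_normalizer_iff.1 hn _).2 (by
      rwa [show n * (n⁻¹ * e * n) * n⁻¹ = e by group]))
    rwa [show n * (n⁻¹ * e * n) * n⁻¹ = e by group] at h
  · intro he
    have h := (mem_set_normalizer_iff.1 hn (n⁻¹ * e * n)).1 ((equiv hvQ n hP _).2 (by
      rwa [show n * (n⁻¹ * e * n) * n⁻¹ = e by group]))
    rwa [show n * (n⁻¹ * e * n) * n⁻¹ = e by group] at h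

/-- A conjugator between two owners of `Q` normalises `Q`. -/
theorem mem_normalizer_of_owners {t z g : G} {Q : Subgroup G} (hQ : CentData t Q)
    (hz : CentData z Q) (hg : g * t * g⁻¹ = z) : g ∈ normalizer (Q : Set G) :=
  mem_set_normalizer_iff.2 (equiv hQ g (by rw [hg]; exact hz))

/-- The order of the normaliser. -/
theorem card_normalizer {t : G} {Q : Subgroup G} (hQ : CentData t Q) (ht : t ≠ 1) :
    Nat.card (normalizer (Q : Set G)) = 2688 * Nat.card (Owners Q) := by
  classical
  have hto : orderOf t = 2 := ord_two hQ.sq hQ.mem ht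
  have hex : ∀ z : Owners Q, ∃ g : G, g ∈ normalizer (Q : Set G) ∧ g * t * g⁻¹ = z := fun z => by
    obtain ⟨g, hg⟩ := isConj_iff.1 (L.conj2 t z.1 hto (ord_two hQ.sq z.2.1 z.2.2.1))
    exact ⟨g, mem_normalizer_of_owners L hC hQ z.2.2.2 hg, hg⟩
  choose s hsN hst using hex
  let f : Owners Q × centralizer ({t} : Set G) → normalizer (Q : Set G) := fun p =>
    ⟨s p.1 * p.2, mul_mem (hsN p.1) (hQ.normal p.2.2)⟩
  have hval : ∀ p, (f p : G) * t * (f p : G)⁻¹ = p.1 := fun p => by
    show s p.1 * (p.2 : G) * t * (s p.1 * (p.2 : G))⁻¹ = p.1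
    rw [mul_assoc (s p.1), mem_centralizer_singleton_iff.1 p.2.2, ← hst p.1]
    group
  have hf : Function.Bijective f := by
    refine ⟨fun p p' e => ?_, fun n => ?_⟩
    · have h1 : p.1 = p'.1 := Subtype.ext (by rw [← hval p, e, hval p'])
      refine Prod.ext h1 (Subtype.ext ?_)
      have h2 : s p.1 * (p.2 : G) = s p'.1 * (p'.2 : G) := congrArg Subtype.val e
      rw [h1] at h2
      exact mul_left_cancel h2
    · have hmem : (n : G) * t * (n : G)⁻¹ ∈ Q := (mem_set_normalizer_iff.1 n.2 t).1 hQ.mem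
      have hne : (n : G) * t * (n : G)⁻¹ ≠ 1 := fun h => ht (conj_eq_one_iff.1 h)
      let z : Owners Q := ⟨_, hmem, hne, owner_conj L hC (t := t) ht hQ n.2⟩
      refine ⟨⟨z, ⟨(s z)⁻¹ * n, mem_centralizer_singleton_iff.2 ?_⟩⟩, Subtype.ext ?_⟩
      · calc (s z)⁻¹ * n * t = (s z)⁻¹ * ((n : G) * t * (n : G)⁻¹) * n := by group
          _ = (s z)⁻¹ * (s z * t * (s z)⁻¹) * n := by rw [hst z]
          _ = t * ((s z)⁻¹ * n) := by group
      · show s z * ((s z)⁻¹ * n) = n
        rw [mul_inv_cancel_left]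
  rw [← Nat.card_congr (Equiv.ofBijective f hf), Nat.card_prod, L.cent2 t hto, mul_comm]

/-- Every involution in `Q(t)` has `Q(t)` as its sixteen-group. -/
theorem owners_all {t : G} {Q : Subgroup G} (hQ : CentData t Q) (ht : t ≠ 1) {v : G} (hv : v ∈ Q)
    (hv1 : v ≠ 1) : CentData v Q := by
  classical
  by_contra hbad
  have hvt : v ≠ t := fun h => hbad (h ▸ hQ)
  have hto : orderOf t = 2 := ord_two hQ.sq hQ.mem ht
  have htt : t * t = 1 := hQ.sq t hQ.mem
  have htu : ∀ e : G, t * (t * e) = e := fun e => by rw [← mul_assoc, htt, one_mul]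
  have hA : ∀ {e : G}, e ∈ Q → e ≠ 1 → e ≠ t → t * e ∈ Q ∧ t * e ≠ 1 ∧ t * e ≠ t := fun {e} he h1 h2 =>
    ⟨mul_mem hQ.mem he, fun h => h2 (by rw [← htu e, h, mul_one]),
      fun h => h1 (by simpa using h)⟩
  -- some involution other than `t` owns `Q`
  obtain ⟨v0, hv0, hv01, hv0t, hv0Q⟩ : ∃ e ∈ Q, e ≠ 1 ∧ e ≠ t ∧ CentData e Q := by
    by_contra hno
    push Not at hno
    obtain ⟨hu, hu1, hut⟩ := hA hv hv1 hvt
    obtain ⟨P, hP⟩ := hC v (ord_two hQ.sq hv hv1)
    obtain ⟨P', hP'⟩ := hC (t * v) (ord_two hQ.sq hu hu1)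
    rcases not_distinct ht (L.cent2 t hto) hQ hv hv1 hvt hP hP' with h | h | h
    · exact hbad (h ▸ hP)
    · exact hno _ hu hu1 hut (h ▸ hP')
    · subst h
      obtain ⟨g, hg⟩ := isConj_iff.1 (L.conj2 t v hto (ord_two hQ.sq hv hv1))
      have hmap := equiv hQ g (P := P') (by rw [hg]; exact hP)
      set z := g⁻¹ * (t * v) * g
      have hgz : g * z * g⁻¹ = t * v := by simp only [z]; group
      have hz : z ∈ Q := (hmap z).2 (by rw [hgz]; exact hP'.mem)
      have hz1 : z ≠ 1 := fun h => hu1 (by rw [← hgz, h, mul_one, mul_inv_cancel])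
      have hzt : z ≠ t := fun h => ht (by
        have : t * v = v := by rw [← hgz, h, hg]
        simpa using this)
      obtain ⟨R, hR⟩ := hC z (ord_two hQ.sq hz hz1)
      have hmap2 := equiv hR g (P := P') (by rw [hgz]; exact hP')
      have hRQ : R = Q := by ext e; rw [hmap e, hmap2 e]
      exact hno z hz hz1 hzt (hRQ ▸ hR)
  -- for each `e`, exactly one of `e` and `t e` owns `Q`
  have hone : ∀ e ∈ Q, e ≠ 1 → e ≠ t → CentData e Q ∨ CentData (t * e) Q := by
    intro e he he1 het
    obtain ⟨c, hc, h | h⟩ := hQ.trans v0 hv0 e he hv01 hv0t he1 het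
    · exact Or.inl (h ▸ owner_conj L hC (t := t) hv01 hv0Q (hQ.normal hc))
    · exact Or.inr (h ▸ owner_conj L hC (t := t) hv01 hv0Q (hQ.normal hc))
  have hnotboth : ∀ e ∈ Q, e ≠ 1 → e ≠ t → ¬ (CentData e Q ∧ CentData (t * e) Q) := by
    rintro e he he1 het ⟨h1, h2⟩
    obtain ⟨c, hc, h | h⟩ := hQ.trans e he v hv he1 het hv1 hvt
    · exact hbad (h ▸ owner_conj L hC (t := t) he1 h1 (hQ.normal hc))
    · refine hbad ?_
      have h3 := owner_conj L hC (t := t) (hA he he1 het).2.1 h2 (hQ.normal hc)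
      rwa [show c * (t * e) * c⁻¹ = v by
        rw [show c * (t * e) * c⁻¹ = (c * t) * (e * c⁻¹) by group,
          mem_centralizer_singleton_iff.1 hc,
          show t * c * (e * c⁻¹) = t * (c * e * c⁻¹) by group, h, htu]] at h3
  -- counting
  haveI : Fintype G := Fintype.ofFinite G
  set F : Finset G := Finset.univ.filter (· ∈ Q) with hF
  have hmem : ∀ e, e ∈ F ↔ e ∈ Q := fun e => by simp [hF]
  have hFc : F.card = 16 := by
    rw [← hQ.card_Q, hF, Nat.card_eq_fintype_card]
    exact (Fintype.card_of_subtype _ (fun e => by simp)).symm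
  set A : Finset G := (F.erase 1).erase t with hAdef
  have hAm : ∀ e, e ∈ A ↔ e ∈ Q ∧ e ≠ 1 ∧ e ≠ t := fun e => by
    simp only [hAdef, Finset.mem_erase, hmem]; tauto
  have hAc : A.card = 14 := by
    rw [hAdef, Finset.card_erase_of_mem (Finset.mem_erase.2 ⟨ht, (hmem t).2 hQ.mem⟩),
      Finset.card_erase_of_mem ((hmem 1).2 (one_mem Q)), hFc]
  have hhalf : (A.filter fun e => CentData e Q).card = (A.filter fun e => ¬ CentData e Q).card := by
    refine Finset.card_nbij' (fun e => t * e) (fun e => t * e) ?_ ?_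
      (fun e _ => htu e) (fun e _ => htu e)
    · intro e he
      simp only [Finset.coe_filter, Set.mem_ofPred_eq, hAm] at he ⊢
      obtain ⟨⟨h1, h2, h3⟩, h4⟩ := he
      exact ⟨hA h1 h2 h3, fun h => hnotboth e h1 h2 h3 ⟨h4, h⟩⟩
    · intro e he
      simp only [Finset.coe_filter, Set.mem_ofPred_eq, hAm] at he ⊢
      obtain ⟨⟨h1, h2, h3⟩, h4⟩ := he
      exact ⟨hA h1 h2 h3, (hone e h1 h2 h3).resolve_left h4⟩
  have hsum := Finset.card_filter_add_card_filter_not (s := A) (fun e => CentData e Q)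
  rw [hAc, ← hhalf] at hsum
  have hown : Nat.card (Owners Q) = 8 := by
    have hins : (Finset.univ.filter fun e => e ∈ Q ∧ e ≠ 1 ∧ CentData e Q) =
        insert t (A.filter fun e => CentData e Q) := by
      ext e
      simp only [Finset.mem_filter, Finset.mem_univ, true_and, Finset.mem_insert, hAm]
      rcases eq_or_ne e t with rfl | hne
      · exact ⟨fun _ => Or.inl rfl, fun _ => ⟨hQ.mem, ht, hQ⟩⟩
      · simp only [hne, false_or, ne_eq, not_false_eq_true, and_true]
        tauto
    rw [Nat.card_eq_fintype_card, Fintype.card_of_subtype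
      (Finset.univ.filter fun e => e ∈ Q ∧ e ≠ 1 ∧ CentData e Q) (fun e => by simp), hins,
      Finset.card_insert_of_notMem (by simp [hAm])]
    omega
  have hdvd := Subgroup.card_subgroup_dvd_card (normalizer (Q : Set G))
  rw [card_normalizer L hC hQ ht, hown, L.card] at hdvd
  norm_num at hdvd

/-- The sixteen-group whose conjugates are the 253 blocks. -/
theorem exists_hep : Nonempty (H91.M23R.Hep G) := by
  classical
  haveI : Fact (Nat.Prime 2) := ⟨Nat.prime_two⟩
  obtain ⟨t, hto⟩ := exists_prime_orderOf_dvd_card' (G := G) 2 (by rw [L.card]; norm_num)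
  obtain ⟨Q, hQ⟩ := hC t hto
  have ht : t ≠ 1 := fun h => by rw [h, orderOf_one] at hto; norm_num at hto
  have hall : ∀ v ∈ Q, v ≠ 1 → CentData v Q := fun v hv h1 => owners_all L hC hQ ht hv h1
  have hown : Nat.card (Owners Q) = 15 := by
    haveI : Fintype G := Fintype.ofFinite G
    have e : (Finset.univ.filter fun e : G => e ∈ Q ∧ e ≠ 1 ∧ CentData e Q) =
        (Finset.univ.filter (· ∈ Q)).erase 1 := by
      ext e
      simp only [Finset.mem_filter, Finset.mem_univ, true_and, Finset.mem_erase]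
      exact ⟨fun h => ⟨h.2.1, h.1⟩, fun h => ⟨h.2, h.1, hall e h.2 h.1⟩⟩
    rw [Nat.card_eq_fintype_card, Fintype.card_of_subtype
      (Finset.univ.filter fun e : G => e ∈ Q ∧ e ≠ 1 ∧ CentData e Q) (fun e => by simp), e,
      Finset.card_erase_of_mem (by simp)]
    have h16 : (Finset.univ.filter (· ∈ Q) : Finset G).card = 16 := by
      rw [← hQ.card_Q, Nat.card_eq_fintype_card]
      exact (Fintype.card_of_subtype _ (fun e => by simp)).symm
    omega
  refine ⟨{
    E := Q
    card_E := hQ.card_Q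
    sq := hQ.sq
    self := hQ.self
    card_N := by rw [card_normalizer L hC hQ ht, hown]
    trans := fun u hu v hv hu1 hv1 => by
      obtain ⟨g, hg⟩ := isConj_iff.1 (L.conj2 u v (ord_two hQ.sq hu hu1) (ord_two hQ.sq hv hv1))
      exact ⟨g, mem_normalizer_of_owners L hC (hall u hu hu1) (hall v hv hv1) hg, hg⟩
    cent := fun v hv h1 => (hall v hv h1).normal
    ti := fun g v hv h1 hg => mem_normalizer_of_owners L hC (hall v hv h1)
      (hall _ hg (fun h => h1 (conj_eq_one_iff.1 h))) rfl }⟩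

end H99.M23R
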